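import Mathlib
import Cfsg.Prelude.Def_Solvable
import Cfsg.Agent.Lib.Core.Cores
import Cfsg.Agent.Lib.Components.FStar

set_option autoImplicit false
set_option linter.unusedSectionVars false

/-!
In a solvable linear group over the field of two elements without normal 2-subgroups, the square of an
element of order four is not a transvection (owner: helper18).
-/

namespace CfsgLib.TransvectionSquare

variable {V : Type*} [AddCommGroup V] [Module (ZMod 2) V] [Finite V]

instance finite_linearEquiv : Finite (V ≃ₗ[ZMod 2] V) :=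
  Finite.of_injective (fun e => (e : V → V)) DFunLike.coe_injective

/-- The elements moving every vector inside a given subspace. -/
def movers (U : Submodule (ZMod 2) V) : Subgroup (V ≃ₗ[ZMod 2] V) where
  carrier := {g | ∀ v, g v - v ∈ U}
  one_mem' v := by simp
  mul_mem' {g h} hg hh v := by
    have : (g * h) v - v = (g (h v) - h v) + (h v - v) := by simp
    rw [this]
    exact U.add_mem (hg _) (hh v)
  inv_mem' {g} hg v := by
    have h1 := U.neg_mem (hg (g⁻¹ v))
    have h2 : g (g⁻¹ v) = v := by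
      rw [← LinearEquiv.mul_apply, mul_inv_cancel, LinearEquiv.coe_one, id_eq]
    rwa [h2, neg_sub] at h1

theorem mem_movers {U : Submodule (ZMod 2) V} {g : V ≃ₗ[ZMod 2] V} :
    g ∈ movers U ↔ ∀ v, g v - v ∈ U := Iff.rfl

theorem smul_eq_of_odd {n : ℕ} (hn : Odd n) (v : V) : n • v = v := by
  have h2 : (2 : ℕ) • v = 0 := by
    rw [← Nat.cast_smul_eq_nsmul (ZMod 2), show ((2 : ℕ) : ZMod 2) = 0 from rfl, zero_smul]
  obtain ⟨j, rfl⟩ := hn
  rw [add_smul, mul_comm, mul_smul, h2, smul_zero, zero_add, one_smul]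

/-- An element of odd order shifting a vector by one of its fixed vectors fixes it. -/
theorem fix_of_shift {y : V ≃ₗ[ZMod 2] V} (hy : Odd (orderOf y)) {v δ : V}
    (h1 : y v = v + δ) (h2 : y δ = δ) : δ = 0 := by
  have key : ∀ m : ℕ, (y ^ m) v = v + m • δ := by
    intro m
    induction m with
    | zero => simp
    | succ m ih =>
      rw [pow_succ', LinearEquiv.mul_apply, ih, map_add, map_nsmul, h1, h2, succ_nsmul, add_assoc,
        add_comm δ]
  have h3 := key (orderOf y)
  rw [pow_orderOf_eq_one, smul_eq_of_odd hy, LinearEquiv.coe_one, id_eq] at h3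
  exact left_eq_add.1 h3

/-- An element of odd order is trivial if it moves vectors inside a subspace it fixes. -/
theorem eq_one_of_fix {y : V ≃ₗ[ZMod 2] V} (hy : Odd (orderOf y)) {U : Submodule (ZMod 2) V}
    (hU : y ∈ movers U) (hfix : ∀ u ∈ U, y u = u) : y = 1 := by
  refine LinearEquiv.ext fun v => ?_
  have h := fix_of_shift hy (v := v) (δ := y v - v) (by abel) (hfix _ (hU v))
  rw [sub_eq_zero] at h
  exact h

theorem card_span_le {k : ℕ} (a : Fin k → V) :
    Nat.card ↥(Submodule.span (ZMod 2) (Set.range a)) ≤ 2 ^ k := by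
  rw [← Fintype.range_linearCombination (ZMod 2) a]
  refine (Nat.card_le_card_of_surjective
    (Fintype.linearCombination (ZMod 2) a).rangeRestrict
    (LinearMap.surjective_rangeRestrict _)).trans (le_of_eq ?_)
  rw [Nat.card_fun, Nat.card_zmod, Nat.card_fin]

/-- An odd order group moving vectors inside `U` and fixing `v₀ ∈ U` with at most four classes
modulo `v₀` has order at most three. -/
theorem card_le_three {D : Subgroup (V ≃ₗ[ZMod 2] V)} (hD : Odd (Nat.card D))
    {U : Submodule (ZMod 2) V} (hDU : D ≤ movers U) (v₀ : V) (hv₀ : v₀ ∈ U)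
    (hfix : ∀ d ∈ D, d v₀ = v₀)
    (hcard : Nat.card ↥(U.map (Submodule.span (ZMod 2) {v₀}).mkQ) ≤ 4) : Nat.card D ≤ 3 := by
  classical
  set L := Submodule.span (ZMod 2) {v₀} with hL
  have hLfix : ∀ d ∈ D, ∀ l ∈ L, d l = l := by
    intro d hd l hl
    obtain ⟨a, rfl⟩ := Submodule.mem_span_singleton.1 hl
    rw [map_smul, hfix d hd]
  have : Finite (V ⧸ L) := Finite.of_surjective _ (Submodule.Quotient.mk_surjective L)
  let W := {w : V ⧸ L // w ∈ U.map L.mkQ ∧ w ≠ 0}
  have hLL : ∀ d : D, L ≤ L.comap ((d : V ≃ₗ[ZMod 2] V) : V →ₗ[ZMod 2] V) := fun d l hl => by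
    show (d : V ≃ₗ[ZMod 2] V) l ∈ L
    rw [hLfix d d.2 l hl]
    exact hl
  let act : D → V ⧸ L → V ⧸ L := fun d =>
    L.mapQ L ((d : V ≃ₗ[ZMod 2] V) : V →ₗ[ZMod 2] V) (hLL d)
  have hact : ∀ (d : D) (v : V), act d (Submodule.Quotient.mk v) =
      Submodule.Quotient.mk ((d : V ≃ₗ[ZMod 2] V) v) := fun d v => rfl
  have hact0 : ∀ d : D, act d 0 = 0 := fun d => map_zero _
  have hactone : ∀ w, act 1 w = w := by
    intro w
    induction w using Submodule.Quotient.induction_on with
    | H v => rw [hact]; rfl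
  have hactmul : ∀ (d e : D) (w), act (d * e) w = act d (act e w) := by
    intro d e w
    induction w using Submodule.Quotient.induction_on with
    | H v => rw [hact, hact, hact]; rfl
  have hW : ∀ (d : D) (w : W), act d w.1 ∈ U.map L.mkQ ∧ act d w.1 ≠ 0 := by
    rintro d ⟨w, ⟨u, hu, rfl⟩, hw⟩
    refine ⟨⟨(d : V ≃ₗ[ZMod 2] V) u, ?_, (hact d u).symm⟩, fun h0 => hw ?_⟩
    · have := U.add_mem (hDU d.2 u) hu
      rwa [sub_add_cancel] at this
    · rw [← hactone (L.mkQ u), ← inv_mul_cancel d, hactmul]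
      exact (congrArg (act d⁻¹) h0).trans (hact0 _)
  let _ : MulAction D W :=
    { smul := fun d w => ⟨act d w.1, hW d w⟩
      one_smul := fun w => Subtype.ext (hactone w.1)
      mul_smul := fun d e w => Subtype.ext (hactmul d e w.1) }
  have hWc : Nat.card W ≤ 3 := by
    have h1 : Nat.card (Option W) ≤ Nat.card ↥(U.map L.mkQ) := by
      refine Nat.card_le_card_of_injective
        (fun o : Option W => o.elim (⟨0, Submodule.zero_mem _⟩ : ↥(U.map L.mkQ))
          (fun w => ⟨w.1, w.2.1⟩)) ?_
      rintro (_ | a) (_ | b) h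
      · rfl
      · exact absurd (congrArg Subtype.val h).symm b.2.2
      · exact absurd (congrArg Subtype.val h) a.2.2
      · exact congrArg some (Subtype.ext (congrArg (fun w : ↥(U.map L.mkQ) => w.1) h))
    rw [Finite.card_option] at h1
    omega
  have : Finite W := Subtype.finite
  have hinj : Function.Injective (MulAction.toPermHom D W) := by
    rw [injective_iff_map_eq_one]
    intro d hd
    have hodd : Odd (orderOf (d : V ≃ₗ[ZMod 2] V)) := by
      rw [Subgroup.orderOf_coe]
      exact hD.of_dvd_nat (orderOf_dvd_natCard d)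
    refine Subtype.ext (eq_one_of_fix hodd (hDU d.2) fun u hu => ?_)
    have hδ : (d : V ≃ₗ[ZMod 2] V) u - u ∈ L := by
      rw [← Submodule.Quotient.eq]
      by_cases h0 : (Submodule.Quotient.mk u : V ⧸ L) = 0
      · rw [← hact, h0, hact0]
      · rw [← hact]
        exact congrArg Subtype.val
          (Equiv.Perm.ext_iff.1 hd ⟨Submodule.Quotient.mk u, ⟨u, hu, rfl⟩, h0⟩)
    have := fix_of_shift hodd (v := u) (δ := (d : V ≃ₗ[ZMod 2] V) u - u) (by abel)
      (hLfix _ d.2 _ hδ)
    exact sub_eq_zero.1 this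
  have h6 : Nat.card D ∣ 6 := by
    refine (Subgroup.card_dvd_of_injective _ hinj).trans ?_
    rw [Nat.card_perm]
    exact Nat.factorial_dvd_factorial hWc
  have hle := Nat.le_of_dvd (by norm_num) h6
  obtain ⟨j, hj⟩ := hD
  by_contra hgt
  have : j = 2 := by omega
  rw [hj, this] at h6
  norm_num at h6

/-- The main argument, inside the ambient general linear group. -/
theorem no_transvection_square {F : Subgroup (V ≃ₗ[ZMod 2] V)} [Group.IsNilpotent F]
    (hF : Odd (Nat.card F)) (P : V ≃ₗ[ZMod 2] V) (hP : P ^ 4 = 1)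
    (hPF : ∀ r ∈ F, P * r * P⁻¹ ∈ F) (c : V)
    (hc : ∀ v, (P ^ 2) v - v = 0 ∨ (P ^ 2) v - v = c) :
    ∀ r ∈ F, P ^ 2 * r = r * P ^ 2 := by
  classical
  intro r hr
  by_contra hne
  set t := P ^ 2 with ht
  have htt : t * t = 1 := by rw [ht, ← pow_add]; exact hP
  have hti : t⁻¹ = t := inv_eq_of_mul_eq_one_left htt
  have htF : ∀ r ∈ F, t * r * t ∈ F := by
    intro r hr
    have := hPF _ (hPF r hr)
    rw [show P * (P * r * P⁻¹) * P⁻¹ = P * P * r * (P * P)⁻¹ by group, ← pow_two, ← ht, hti] at this
    exact this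
  let x : (V ≃ₗ[ZMod 2] V) → (V ≃ₗ[ZMod 2] V) := fun r => r * t * r⁻¹ * t
  have hxF : ∀ r ∈ F, x r ∈ F := fun r hr => by
    have := F.mul_mem hr (htF _ (F.inv_mem hr))
    simpa [x, mul_assoc] using this
  have hxinv : ∀ r, t * x r * t = (x r)⁻¹ := by
    intro r
    simp only [x, mul_inv_rev, inv_inv, hti]
    rw [mul_assoc t, mul_assoc (r * t * r⁻¹) t t, htt, mul_one]
    group
  have hodd : ∀ g ∈ F, Odd (orderOf g) := fun g hg =>
    hF.of_dvd_nat (Subgroup.orderOf_dvd_natCard F hg)
  have hxU : ∀ (r : V ≃ₗ[ZMod 2] V) (U : Submodule (ZMod 2) V), c ∈ U → r c ∈ U → x r ∈ movers U := by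
    intro r U hcU hrcU v
    have e : (x r) v - v = r (t (r⁻¹ (t v)) - r⁻¹ (t v)) + (t v - v) := by
      have hr' : r (r⁻¹ (t v)) = t v := by
        rw [← LinearEquiv.mul_apply r r⁻¹, mul_inv_cancel, LinearEquiv.coe_one, id_eq]
      rw [map_sub, hr']
      simp only [x, LinearEquiv.mul_apply]
      abel
    rw [e]
    refine U.add_mem ?_ ?_
    · rcases hc (r⁻¹ (t v)) with h | h <;> rw [h]
      · rw [map_zero]; exact U.zero_mem
      · exact hrcU
    · rcases hc v with h | h <;> rw [h]
      exacts [U.zero_mem, hcU]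
  -- nontrivial ones have order three
  have hthree : ∀ r ∈ F, x r ≠ 1 → orderOf (x r) = 3 := by
    intro r hr hx
    set U := Submodule.span (ZMod 2) (Set.range ![c, r c]) with hU
    have hcU : c ∈ U := Submodule.subset_span ⟨0, rfl⟩
    have hrcU : r c ∈ U := Submodule.subset_span ⟨1, rfl⟩
    have h3 : Nat.card (Subgroup.zpowers (x r)) ≤ 3 :=
      card_le_three (by rw [Nat.card_zpowers]; exact hodd _ (hxF r hr))
        (Subgroup.zpowers_le.2 (hxU r U hcU hrcU)) 0 U.zero_mem (fun d _ => map_zero d)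
        ((Nat.card_le_card_of_surjective
          (fun u : U => (⟨_, ⟨u.1, u.2, rfl⟩⟩ : ↥(U.map (Submodule.span (ZMod 2) {(0 : V)}).mkQ)))
          (by rintro ⟨_, u, hu, rfl⟩; exact ⟨⟨u, hu⟩, rfl⟩)).trans (card_span_le ![c, r c]))
    rw [Nat.card_zpowers] at h3
    obtain ⟨j, hj⟩ := hodd _ (hxF r hr)
    have h1 : orderOf (x r) ≠ 1 := fun h => hx (orderOf_eq_one_iff.1 h)
    omega
  set x₀ := x r with hx₀def
  have hx₀ : x₀ ≠ 1 := by
    intro h
    apply hne
    have e : r * t * r⁻¹ * t = 1 := h
    rw [← eq_inv_iff_mul_eq_one, hti, mul_inv_eq_iff_eq_mul] at e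
    exact e.symm
  have hx₀3 : orderOf x₀ = 3 := hthree r hr hx₀
  -- all of them lie in the same group of order three
  have hall : ∀ s ∈ F, x s ∈ Subgroup.zpowers x₀ := by
    intro s hs
    set U := Submodule.span (ZMod 2) (Set.range ![c, r c, s c]) with hU
    have hcU : c ∈ U := Submodule.subset_span ⟨0, rfl⟩
    have hrcU : r c ∈ U := Submodule.subset_span ⟨1, rfl⟩
    have hscU : s c ∈ U := Submodule.subset_span ⟨2, rfl⟩
    set D := Subgroup.zpowers x₀ ⊔ Subgroup.zpowers (x s) with hDdef
    have hDF : D ≤ F :=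
      sup_le (Subgroup.zpowers_le.2 (hxF r hr)) (Subgroup.zpowers_le.2 (hxF s hs))
    have hDodd : Odd (Nat.card D) := hF.of_dvd_nat (Subgroup.card_dvd_of_le hDF)
    have hDU : D ≤ movers U :=
      sup_le (Subgroup.zpowers_le.2 (hxU r U hcU hrcU)) (Subgroup.zpowers_le.2 (hxU s U hcU hscU))
    have hD3 : Nat.card D ≤ 3 → x s ∈ Subgroup.zpowers x₀ := by
      intro h3
      have : Subgroup.zpowers x₀ = D :=
        Subgroup.eq_of_le_of_card_ge le_sup_left (by rw [Nat.card_zpowers, hx₀3]; exact h3)
      rw [this]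
      exact Subgroup.mem_sup_right (Subgroup.mem_zpowers _)
    rcases Nat.lt_or_ge 4 (Nat.card U) with hbig | hsmall
    swap
    · exact hD3 (card_le_three hDodd hDU 0 U.zero_mem (fun d _ => map_zero d)
        ((Nat.card_le_card_of_surjective
          (fun u : U => (⟨_, ⟨u.1, u.2, rfl⟩⟩ : ↥(U.map (Submodule.span (ZMod 2) {(0 : V)}).mkQ)))
          (by rintro ⟨_, u, hu, rfl⟩; exact ⟨⟨u, hu⟩, rfl⟩)).trans hsmall))
    have hU8 : Nat.card U ≤ 8 := card_span_le ![c, r c, s c]
    -- a common fixed vector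
    let f : U → Bool × Bool := fun u =>
      (decide (t u.1 - u.1 = 0), decide (t (r⁻¹ u.1) - r⁻¹ u.1 = 0))
    obtain ⟨u, u', huu', hfu⟩ := Function.not_injective_iff.1 (fun hf : Function.Injective f => by
      have := Nat.card_le_card_of_injective f hf
      simp at this
      omega) |> fun ⟨a, b, h1, h2⟩ => (⟨a, b, h2, h1⟩ : ∃ a b, a ≠ b ∧ f a = f b)
    set v₀ : V := u.1 - u'.1 with hv₀def
    have hv₀U : v₀ ∈ U := U.sub_mem u.2 u'.2
    have hv₀0 : v₀ ≠ 0 := fun h => huu' (Subtype.ext (sub_eq_zero.1 h))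
    have hcases : ∀ a b : V, decide (t a - a = 0) = decide (t b - b = 0) → t (a - b) = a - b := by
      intro a b hab
      rw [decide_eq_decide] at hab
      have e : t a - a = t b - b := by
        rcases hc a with h | h <;> rcases hc b with h' | h'
        · rw [h, h']
        · rw [h, hab.1 h]
        · rw [h', hab.2 h']
        · rw [h, h']
      rw [map_sub]
      calc t a - t b = (t a - a) + (a - t b) := by abel
        _ = (t b - b) + (a - t b) := by rw [e]
        _ = a - b := by abel
    have htv : t v₀ = v₀ := hcases _ _ (congrArg Prod.fst hfu)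
    have htv' : t (r⁻¹ v₀) = r⁻¹ v₀ := by
      rw [hv₀def, map_sub]
      exact hcases _ _ (congrArg Prod.snd hfu)
    have hxv : x₀ v₀ = v₀ := by
      rw [hx₀def]
      simp only [x, LinearEquiv.mul_apply]
      rw [htv, htv', ← LinearEquiv.mul_apply r r⁻¹, mul_inv_cancel, LinearEquiv.coe_one, id_eq]
    -- it is the only nonzero one
    have huniq : ∀ w ∈ U, x₀ w = w → w = 0 ∨ w = v₀ := by
      intro w hwU hw
      by_contra hcon
      obtain ⟨hw0, hwv⟩ := not_or.1 hcon
      set K := Submodule.span (ZMod 2) (Set.range ![v₀, w]) with hK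
      have hKU : K ≤ U := Submodule.span_le.2 (by
        rintro _ ⟨i, rfl⟩; fin_cases i <;> assumption)
      have hKfix : ∀ y ∈ K, x₀ y = y := by
        intro y hy
        induction hy using Submodule.span_induction with
        | mem y hy => obtain ⟨i, rfl⟩ := hy; fin_cases i <;> assumption
        | zero => exact map_zero _
        | add a b _ _ ha hb => rw [map_add, ha, hb]
        | smul k a _ ha => rw [map_smul, ha]
      have hK4 : 4 ≤ Nat.card K := by
        have hv : v₀ ∈ K := Submodule.subset_span ⟨0, rfl⟩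
        have hw' : w ∈ K := Submodule.subset_span ⟨1, rfl⟩
        refine le_trans ?_ (Nat.card_le_card_of_injective
          (![⟨0, K.zero_mem⟩, ⟨v₀, hv⟩, ⟨w, hw'⟩, ⟨v₀ + w, K.add_mem hv hw'⟩] : Fin 4 → K) ?_)
        · simp
        · have hne' : v₀ + w ≠ 0 := fun h => hwv (by
            have : v₀ + v₀ = 0 := by rw [← two_nsmul, ← Nat.cast_smul_eq_nsmul (ZMod 2),
              show ((2 : ℕ) : ZMod 2) = 0 from rfl, zero_smul]
            exact add_left_cancel (h.trans this.symm))
          intro i j hij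
          have hij' := congrArg Subtype.val hij
          fin_cases i <;> fin_cases j <;> simp at hij' ⊢ <;>
            first
            | exact absurd hij' hv₀0 | exact absurd hij'.symm hv₀0
            | exact absurd hij' hw0 | exact absurd hij'.symm hw0
            | exact absurd hij' hne' | exact absurd hij'.symm hne'
            | exact absurd hij'.symm hwv | exact absurd hij' hwv
      have hidx : ∀ a ∈ U, a ∉ K → ∀ b ∈ U, b ∉ K → b - a ∈ K := by
        intro a ha haK b hb hbK
        by_contra hba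
        have hinj : Function.Injective (fun q : Fin 3 × K =>
            (⟨![0, a, b] q.1 + q.2, U.add_mem (by rcases q with ⟨i, -⟩; fin_cases i <;>
              first | exact U.zero_mem | exact ha | exact hb) (hKU q.2.2)⟩ : U)) := by
          rintro ⟨i, k⟩ ⟨i', k'⟩ hq
          have hq' : ![0, a, b] i + (k : V) = ![0, a, b] i' + (k' : V) := congrArg Subtype.val hq
          have hdiff : ![0, a, b] i - ![0, a, b] i' ∈ K := by
            rw [show ![0, a, b] i - ![0, a, b] i' = (k' : V) - k by
              rw [sub_eq_sub_iff_add_eq_add, hq', add_comm]]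
            exact K.sub_mem k'.2 k.2
          have hii : i = i' := by
            fin_cases i <;> fin_cases i' <;> first
              | rfl
              | (exfalso; simp at hdiff; first
                  | exact haK hdiff | exact hbK hdiff | exact hba hdiff
                  | exact hba (by simpa using K.neg_mem hdiff))
          subst hii
          exact Prod.ext rfl (Subtype.ext (add_left_cancel hq'))
        have := Nat.card_le_card_of_injective _ hinj
        rw [Nat.card_prod, Nat.card_fin] at this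
        omega
      apply hx₀
      refine eq_one_of_fix (by rw [hx₀3]; decide) (hxU r U hcU hrcU) fun a ha => ?_
      by_cases haK : a ∈ K
      · exact hKfix a haK
      have hmem : x₀ a ∈ U := by
        have := U.add_mem (hxU r U hcU hrcU a) ha
        rwa [sub_add_cancel] at this
      have hnot : x₀ a ∉ K := fun h => haK (by
        have := hKfix _ h
        rw [x₀.injective this] at h
        exact h)
      have hd := hidx a ha haK _ hmem hnot
      have := fix_of_shift (y := x₀) (by rw [hx₀3]; decide) (v := a) (δ := x₀ a - a) (by abel)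
        (hKfix _ hd)
      exact sub_eq_zero.1 this
    -- the centralizer of `x₀` in `D`
    have hC3 : Nat.card ↥(D ⊓ Subgroup.centralizer ({x₀} : Set (V ≃ₗ[ZMod 2] V))) ≤ 3 := by
      refine card_le_three (hDodd.of_dvd_nat (Subgroup.card_dvd_of_le inf_le_left))
        (inf_le_left.trans hDU) v₀ hv₀U (fun d hd => ?_) ?_
      · have hdx : d * x₀ = x₀ * d := Subgroup.mem_centralizer_singleton_iff.1 hd.2
        have h1 : x₀ (d v₀) = d v₀ := by
          rw [← LinearEquiv.mul_apply, ← hdx, LinearEquiv.mul_apply, hxv]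
        have h2 : d v₀ ∈ U := by
          have := U.add_mem (hDU hd.1 v₀) hv₀U
          rwa [sub_add_cancel] at this
        exact (huniq _ h2 h1).resolve_left fun h => hv₀0 (d.map_eq_zero_iff.1 h)
      · set L := Submodule.span (ZMod 2) {v₀}
        choose g hg1 hg2 using fun w : ↥(U.map L.mkQ) => Submodule.mem_map.1 w.2
        have hv₀L : v₀ ∈ L := Submodule.mem_span_singleton_self v₀
        have hinj : Function.Injective (fun q : ↥(U.map L.mkQ) × Bool =>
            (⟨g q.1 + (if q.2 then v₀ else 0), U.add_mem (hg1 q.1) (by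
              split
              exacts [hv₀U, U.zero_mem])⟩ : U)) := by
          rintro ⟨w, i⟩ ⟨w', i'⟩ hq
          have hq' : g w + (if i then v₀ else 0) = g w' + (if i' then v₀ else 0) :=
            congrArg Subtype.val hq
          have hw : w = w' := by
            apply Subtype.ext
            have hm : ∀ i : Bool, L.mkQ (if i then v₀ else 0) = 0 := fun i => by
              cases i
              · exact map_zero _
              · exact (Submodule.Quotient.mk_eq_zero L).2 hv₀L
            have := congrArg L.mkQ hq'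
            rwa [map_add, map_add, hm, hm, add_zero, add_zero, hg2, hg2] at this
          subst hw
          refine Prod.ext rfl ?_
          have := add_left_cancel hq'
          cases i <;> cases i' <;> simp at this ⊢ <;>
            first | exact hv₀0 this | exact hv₀0 this.symm
        have := Nat.card_le_card_of_injective _ hinj
        simp only [Nat.card_prod, Nat.card_eq_fintype_card (α := Bool), Fintype.card_bool] at this
        omega
    apply hD3
    have : Group.IsNilpotent D := CfsgLib.Core.isNilpotent_of_le hDF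
    have hx₀D : x₀ ∈ D := Subgroup.mem_sup_left (Subgroup.mem_zpowers _)
    have : Nontrivial D :=
      ⟨⟨1, ⟨x₀, hx₀D⟩, fun h => hx₀ (congrArg Subtype.val h).symm⟩⟩
    obtain ⟨z, hz, hz1⟩ := (Subgroup.bot_or_exists_ne_one (Subgroup.center D)).resolve_left
      (Group.IsNilpotent.center_ne_bot D)
    have hCeq : Subgroup.zpowers x₀ = D ⊓ Subgroup.centralizer ({x₀} : Set (V ≃ₗ[ZMod 2] V)) :=
      Subgroup.eq_of_le_of_card_ge (Subgroup.zpowers_le.2
        ⟨hx₀D, Subgroup.mem_centralizer_singleton_iff.2 rfl⟩)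
        (by rw [Nat.card_zpowers, hx₀3]; exact hC3)
    have hzC : (z : V ≃ₗ[ZMod 2] V) ∈ Subgroup.zpowers x₀ := hCeq ▸ ⟨z.2,
      Subgroup.mem_centralizer_singleton_iff.2
        (congrArg Subtype.val (Subgroup.mem_center_iff.1 hz ⟨x₀, hx₀D⟩)).symm⟩
    have hx₀c : x₀ ∈ Subgroup.zpowers (z : V ≃ₗ[ZMod 2] V) := by
      have hle : Subgroup.zpowers (z : V ≃ₗ[ZMod 2] V) ≤ Subgroup.zpowers x₀ :=
        Subgroup.zpowers_le.2 hzC
      have hd := Subgroup.card_dvd_of_le hle
      rw [Nat.card_zpowers, Nat.card_zpowers, hx₀3] at hd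
      rcases (Nat.dvd_prime Nat.prime_three).1 hd with h | h
      · exact absurd (Subtype.ext (orderOf_eq_one_iff.1 h)) hz1
      · rw [Subgroup.eq_of_le_of_card_ge hle
          (by rw [Nat.card_zpowers, Nat.card_zpowers, hx₀3, h])]
        exact Subgroup.mem_zpowers _
    refine le_trans (Subgroup.card_le_of_le fun d hd => (⟨hd, ?_⟩ :
      d ∈ D ⊓ Subgroup.centralizer ({x₀} : Set (V ≃ₗ[ZMod 2] V)))) hC3
    obtain ⟨k, hk⟩ := Subgroup.mem_zpowers_iff.1 hx₀c
    show d ∈ Subgroup.centralizer ({x₀} : Set (V ≃ₗ[ZMod 2] V))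
    rw [Subgroup.mem_centralizer_singleton_iff, ← hk]
    have hcz : Commute d (z : V ≃ₗ[ZMod 2] V) :=
      congrArg Subtype.val (Subgroup.mem_center_iff.1 hz ⟨d, hd⟩)
    exact (hcz.zpow_right k).eq
  -- the plane of `x₀`
  let g : V →ₗ[ZMod 2] V := (x₀ : V →ₗ[ZMod 2] V) - LinearMap.id
  set R₀ := LinearMap.range g with hR₀
  have hR₀c : Nat.card R₀ ≤ 4 := by
    have hle : R₀ ≤ Submodule.span (ZMod 2) (Set.range ![c, r c]) := by
      rintro _ ⟨v, rfl⟩
      exact hxU r (Submodule.span (ZMod 2) (Set.range ![c, r c])) (Submodule.subset_span ⟨0, rfl⟩)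
        (Submodule.subset_span ⟨1, rfl⟩) v
    exact (Nat.card_le_card_of_injective _ (Submodule.inclusion_injective hle)).trans
      (card_span_le ![c, r c])
  have hx₀R : x₀ ∈ movers R₀ := fun v => ⟨v, rfl⟩
  have hPR : ∀ w ∈ R₀, P w ∈ R₀ := by
    rintro _ ⟨v, rfl⟩
    have hP' : P * x₀ * P⁻¹ ∈ movers R₀ := by
      have e : P * x₀ * P⁻¹ = x (P * r * P⁻¹) := by
        have hPt : P * t = t * P := by rw [ht, ← pow_succ', ← pow_succ]
        have hPt' : Commute P⁻¹ t := (show Commute P t from hPt).inv_left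
        simp only [hx₀def, x, mul_inv_rev, inv_inv]
        calc P * (r * t * r⁻¹ * t) * P⁻¹ = P * r * t * r⁻¹ * (t * P⁻¹) := by group
          _ = P * r * t * r⁻¹ * (P⁻¹ * t) := by rw [hPt'.eq]
          _ = P * r * (t * P⁻¹) * (P * r⁻¹ * P⁻¹) * t := by group
          _ = P * r * (P⁻¹ * t) * (P * r⁻¹ * P⁻¹) * t := by rw [hPt'.eq]
          _ = _ := by group
      rw [e]
      exact Subgroup.zpowers_le.2 hx₀R (hall _ (hPF r hr))
    have := hP' (P v)
    have hPi : P⁻¹ (P v) = v := by
      rw [← LinearEquiv.mul_apply, inv_mul_cancel, LinearEquiv.coe_one, id_eq]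
    rw [LinearEquiv.mul_apply, LinearEquiv.mul_apply, hPi, ← map_sub] at this
    exact this
  have hnofix : ∀ w ∈ R₀, x₀ w = w → w = 0 := by
    rintro _ ⟨v, rfl⟩ hw
    exact fix_of_shift (y := x₀) (hodd _ (hxF r hr)) (v := v) (δ := g v)
      (by show x₀ v = v + (x₀ v - v); abel) hw
  have htR : ∀ w ∈ R₀, t w = w := by
    intro w hw
    by_contra htw
    have hw0 : w ≠ 0 := fun h => htw (by rw [h, map_zero])
    have e2 : t w = P (P w) := by rw [ht, pow_two, LinearEquiv.mul_apply]
    have e4 : P (P (P (P w))) = w := by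
      have : (P ^ 4) w = w := by rw [hP, LinearEquiv.coe_one, id_eq]
      simpa [pow_succ, LinearEquiv.mul_apply] using this
    have h2 : P (P w) ≠ w := e2 ▸ htw
    have h1 : P w ≠ w := fun h => h2 (by rw [h, h])
    have h3 : P (P (P w)) ≠ w := fun h => h1 (by rw [h] at e4; exact e4)
    have hw1 := hPR w hw
    have hw2 := hPR _ hw1
    have hw3 := hPR _ hw2
    have hinj : Function.Injective (![(⟨0, R₀.zero_mem⟩ : R₀), ⟨w, hw⟩, ⟨P w, hw1⟩, ⟨P (P w), hw2⟩,
        ⟨P (P (P w)), hw3⟩] : Fin 5 → R₀) := by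
      intro i j hij
      have hij' := congrArg Subtype.val hij
      have z1 : P w ≠ 0 := fun h => hw0 (P.map_eq_zero_iff.1 h)
      have z2 : P (P w) ≠ 0 := fun h => z1 (P.map_eq_zero_iff.1 h)
      have z3 : P (P (P w)) ≠ 0 := fun h => z2 (P.map_eq_zero_iff.1 h)
      have d12 : P w ≠ P (P w) := fun h => h1 (P.injective h).symm
      have d23 : P (P w) ≠ P (P (P w)) := fun h => d12 (P.injective h)
      have d13 : P w ≠ P (P (P w)) := fun h => h2 (P.injective h).symm
      fin_cases i <;> fin_cases j <;> simp at hij' ⊢ <;> first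
        | exact hw0 hij' | exact hw0 hij'.symm | exact z1 hij' | exact z1 hij'.symm
        | exact z2 hij' | exact z2 hij'.symm | exact z3 hij' | exact z3 hij'.symm
        | exact h1 hij' | exact h1 hij'.symm | exact h2 hij' | exact h2 hij'.symm
        | exact h3 hij' | exact h3 hij'.symm | exact d12 hij' | exact d12 hij'.symm
        | exact d13 hij' | exact d13 hij'.symm | exact d23 hij' | exact d23 hij'.symm
    have := Nat.card_le_card_of_injective _ hinj
    simp at this
    omega
  apply hx₀
  refine eq_one_of_fix (hodd _ (hxF r hr)) hx₀R fun w hw => ?_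
  have hwm : x₀ w ∈ R₀ := by
    have := R₀.add_mem (hx₀R w) hw
    rwa [sub_add_cancel] at this
  have h1 : (x₀)⁻¹ w = x₀ w := by
    rw [← hxinv r, LinearEquiv.mul_apply, LinearEquiv.mul_apply, htR w hw, htR _ hwm]
  have h2 : x₀ (x₀ w) = w := by
    rw [← h1, ← LinearEquiv.mul_apply, mul_inv_cancel, LinearEquiv.coe_one, id_eq]
  have h3 : x₀ (x₀ (x₀ w)) = w := by
    have : (x₀ ^ 3) w = w := by rw [← hx₀3, pow_orderOf_eq_one, LinearEquiv.coe_one, id_eq]
    simpa [pow_succ, LinearEquiv.mul_apply] using this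
  rw [h2] at h3
  exact h3

end CfsgLib.TransvectionSquare
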